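import Cfsg.Agent.Lib.KnownB.PSpAut.Core
import Cfsg.Agent.Lib.KnownB.PSpAut.FieldAut
import Cfsg.Agent.Lib.Classical.SympSimple

/-!
The inner automorphisms have index two in the automorphism group of `PSp₄(3)`.
-/

set_option autoImplicit false

namespace CfsgLib.U62Cent

open CfsgLib.KnownB.PSpAut

universe u

variable {F : Type u} [Field F] [Fintype F]

theorem index_inn_psp_four_three (hF : Fintype.card F = 3) :
    (MulAut.conj : Cfsg.PSp 2 F →* MulAut (Cfsg.PSp 2 F)).range.index = 2 := by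
  classical
  let e := ZMod.ringEquivOfPrime F Nat.prime_three hF
  have hu : ∀ a : Fˣ, a = 1 ∨ a = -1 := fun a => by
    have h : ∀ b : ZMod 3, b ≠ 0 → b = 1 ∨ b = -1 := by decide
    rcases h (e.symm a) (by simp) with h1 | h1
    · exact Or.inl (Units.ext (by simpa using congrArg e h1))
    · exact Or.inr (Units.ext (by simpa using congrArg e h1))
  have hσ : ∀ σ : F ≃+* F, σ = 1 := fun σ => RingEquiv.ext fun a => by
    obtain ⟨b, rfl⟩ := e.surjective a
    have : (σ : F →+* F).comp (e : ZMod 3 →+* F) = (e : ZMod 3 →+* F) := RingHom.ext_zmod _ _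
    exact RingHom.congr_fun this b
  have h2 : (2 : F) ≠ 0 := by
    rw [← map_ofNat e 2, Ne, map_eq_zero_iff _ e.injective]
    decide
  have hdec : ∀ α : MulAut (Cfsg.PSp 2 F), ∃ g : Cfsg.GSp 2 F, α = δ g := fun α => by
    obtain ⟨g, σ, h⟩ := gamma_decomp (α := α) (by rw [gammaPSp_eq_top le_rfl fun _ => h2]; trivial)
    exact ⟨g, by rw [h, hσ σ, map_one, mul_one]⟩
  have hinn : ∀ g : Cfsg.GSp 2 F, (δ g : MulAut (Cfsg.PSp 2 F)) ∈
      (MulAut.conj : Cfsg.PSp 2 F →* MulAut (Cfsg.PSp 2 F)).range ↔ mult g = 1 := fun g => by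
    refine (δ_mem_inn_iff le_rfl g).trans ⟨?_, fun h => ⟨1, by rw [h, map_one]⟩⟩
    rintro ⟨t, ht⟩
    rw [← ht, powMonoidHom_apply]
    rcases hu t with rfl | rfl <;> simp
  obtain ⟨g, hg⟩ := mult_surjective (m := 2) (F := F) (-1)
  rw [Subgroup.index_eq_two_iff]
  refine ⟨δ g, fun α => ?_⟩
  obtain ⟨h, rfl⟩ := hdec α
  rw [← map_mul, hinn, hinn, map_mul, hg]
  rcases hu (mult h) with e1 | e1 <;> rw [e1]
  · refine Or.inr ⟨rfl, ?_⟩
    simpa [Units.ext_iff] using fun e2 : (-1 : F) = 1 => h2 (by linear_combination -e2)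
  · refine Or.inl ⟨by simp, ?_⟩
    simpa [Units.ext_iff] using fun e2 : (-1 : F) = 1 => h2 (by linear_combination -e2)

end CfsgLib.U62Cent
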