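import Cfsg.Prelude.Def_Classical

/-!
`PSU` over isomorphic fields.
-/

set_option autoImplicit false

namespace CfsgLib.U62Cent

open Matrix

variable {F K : Type*} [Field F] [Field K]

theorem mapSL_mem_SU (n q : ℕ) (σ : F ≃+* K) {g : Matrix.SpecialLinearGroup (Fin n) F}
    (hg : g ∈ Cfsg.SU n F q) : Matrix.SpecialLinearGroup.map (σ : F →+* K) g ∈ Cfsg.SU n K q := by
  intro u v
  have hu : ∀ w : Fin n → K, σ ∘ (σ.symm ∘ w) = w := fun w => funext fun i => σ.apply_symm_apply _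
  have hmv : ∀ w : Fin n → F, (g.1.map σ) *ᵥ (σ ∘ w) = σ ∘ (g.1 *ᵥ w) := fun w => funext fun i =>
    (RingHom.map_mulVec (σ : F →+* K) g.1 w i).symm
  have hh : ∀ a b : Fin n → F, Cfsg.hermForm n K q (σ ∘ a) (σ ∘ b) = σ (Cfsg.hermForm n F q a b) :=
    fun a b => by simp [Cfsg.hermForm, map_sum, map_mul, map_pow]
  show Cfsg.hermForm n K q ((g.1.map σ) *ᵥ u) ((g.1.map σ) *ᵥ v) = _
  rw [← hu u, ← hu v, hmv, hmv, hh, hh]
  exact congrArg σ (hg _ _)

/-- Isomorphic fields give isomorphic projective unitary groups. -/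
theorem psu_congr (n q : ℕ) (σ : F ≃+* K) : Nonempty (Cfsg.PSU n F q ≃* Cfsg.PSU n K q) := by
  let E : ↥(Cfsg.SU n F q) ≃* ↥(Cfsg.SU n K q) :=
    { toFun := fun g => ⟨_, mapSL_mem_SU n q σ g.2⟩
      invFun := fun g => ⟨_, mapSL_mem_SU n q σ.symm g.2⟩
      left_inv := fun g => Subtype.ext (Subtype.ext (by ext i j; simp))
      right_inv := fun g => Subtype.ext (Subtype.ext (by ext i j; simp))
      map_mul' := fun g h => Subtype.ext (map_mul (Matrix.SpecialLinearGroup.map (σ : F →+* K)) g.1 h.1) }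
  refine ⟨QuotientGroup.congr _ _ E (Subgroup.ext fun x => ?_)⟩
  show x ∈ Subgroup.map E.toMonoidHom _ ↔ _
  rw [Subgroup.mem_map_equiv, Subgroup.mem_center_iff, Subgroup.mem_center_iff]
  constructor
  · intro h y
    have := congrArg E (h (E.symm y))
    simpa using this
  · intro h y
    apply E.injective
    simpa using h (E y)

end CfsgLib.U62Cent
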