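import Cfsg.Agent.Lib.U62Cent.Outer.Main
import Cfsg.Agent.Lib.U62Cent.Targets
import Cfsg.Agent.Lib.U62Cent.Tops.Congr
import Cfsg.Agent.Lib.U62Cent.Tops.AutPSp
import Cfsg.Agent.Lib.KnownB.TypeUSix.OfData
import Cfsg.Agent.Lib.Involutions.ZStar.Main
import Cfsg.Agent.Lib.Classical.PSpFourThree
import Cfsg.Agent.Lib.Classical.SympSimple

/-!
The assembly of S3230 and S3231 from the pieces.
-/

set_option autoImplicit false

namespace CfsgLib.U62Cent

open CfsgLib.ThreeTransp CfsgLib.KnownB.TypeUSix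

universe u v

variable {G : Type u} [Group G] {z : G}

theorem sup_oddCore_eq_top [Finite G] (hiso : Cfsg.IsIsolatedInvolution z) :
    Subgroup.centralizer ({z} : Set G) ⊔ Cfsg.oddCore G = ⊤ := by
  refine (Subgroup.eq_top_iff' _).2 fun g => ?_
  obtain ⟨a, ha, c, hc, rfl⟩ := Involutions.ZStar.exists_mul_centralizer hiso g
  exact mul_mem (Subgroup.mem_sup_right ha) (Subgroup.mem_sup_left hc)

/-- The inner case. -/
theorem iso_or_isolated [Finite G] (hS : SplitStmt.{u}) (hA : SixStmt.{u}) (hB : FusionStmt.{u})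
    (hC : LocalStmt.{u}) (hD : FrameStmt.{u}) (P : Hyp z) (htop : P.H₁ = ⊤)
    {K : Type v} [Field K] [Fintype K] (hK : Fintype.card K = 4) :
    Nonempty (G ≃* Cfsg.PSU 6 K 2) ∨ Cfsg.IsIsolatedInvolution z := by
  classical
  by_cases hiso : Cfsg.IsIsolatedInvolution z
  · exact Or.inr hiso
  left
  rcases hS P with ⟨⟨M⟩⟩ | ⟨⟨S⟩⟩
  · obtain ⟨F⟩ := hB P M hiso
    obtain ⟨hl, hc⟩ := hC P M F htop
    obtain ⟨L, _, _, hL, ⟨e⟩⟩ := exists_iso_of_data
      ({ ord := P.ord, loc := hl, cent := hc, frame := hD P M F htop } : Data z)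
    obtain ⟨e'⟩ := psu_congr 6 2 (FiniteField.ringEquivOfCardEq (hL.trans hK.symm) : L ≃+* K)
    exact ⟨e.trans e'⟩
  · exact absurd (hA P S) hiso

/-- Transport to a subgroup of index two. -/
theorem exists_hyp_sub (P : Hyp z) (G₀ : Subgroup G)
    (h : Subgroup.centralizer ({z} : Set G) ⊓ G₀ =
      P.H₁.map (Subgroup.centralizer ({z} : Set G)).subtype) :
    ∃ hz : z ∈ G₀, ∃ Q : Hyp (⟨z, hz⟩ : G₀), Q.H₁ = ⊤ := by
  have hmem : ∀ g : G, g ∈ G₀ → ∀ hg : g ∈ Subgroup.centralizer ({z} : Set G),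
      (⟨g, hg⟩ : Subgroup.centralizer ({z} : Set G)) ∈ P.H₁ := fun g hg hgc => by
    have : g ∈ P.H₁.map (Subgroup.centralizer ({z} : Set G)).subtype := h ▸ ⟨hgc, hg⟩
    obtain ⟨a, ha, rfl⟩ := this
    exact ha
  have hin : ∀ a ∈ P.H₁, (a : G) ∈ G₀ := fun a ha => by
    have : (a : G) ∈ Subgroup.centralizer ({z} : Set G) ⊓ G₀ := h ▸ ⟨a, ha, rfl⟩
    exact this.2
  have hz : z ∈ G₀ := hin _ (P.le P.xc.mem)
  refine ⟨hz, ?_⟩
  set z₀ : G₀ := ⟨z, hz⟩ with hz₀
  have hcen : ∀ a : Subgroup.centralizer ({z₀} : Set G₀),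
      ((a : G₀) : G) ∈ Subgroup.centralizer ({z} : Set G) := fun a =>
    Subgroup.mem_centralizer_singleton_iff.2
      (congrArg Subtype.val (Subgroup.mem_centralizer_singleton_iff.1 a.2))
  let ι : Subgroup.centralizer ({z₀} : Set G₀) →* Subgroup.centralizer ({z} : Set G) :=
    MonoidHom.mk' (fun a => ⟨((a : G₀) : G), hcen a⟩) fun a b => rfl
  have hinj : Function.Injective ι := fun a b e => by
    have := congrArg Subtype.val e
    exact Subtype.ext (Subtype.ext this)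
  have hrange : ∀ a, a ∈ P.H₁ ↔ ∃ b, ι b = a := fun a => by
    constructor
    · intro ha
      exact ⟨⟨⟨a, hin a ha⟩, Subgroup.mem_centralizer_singleton_iff.2
        (Subtype.ext (Subgroup.mem_centralizer_singleton_iff.1 a.2))⟩, Subtype.ext rfl⟩
    · rintro ⟨b, rfl⟩
      exact hmem _ (b : G₀).2 _
  let J₀ := P.J.comap ι
  have hpre : ∀ a ∈ P.J, ∃ b ∈ J₀, ι b = a := fun a ha => by
    obtain ⟨b, rfl⟩ := (hrange a).1 (P.le ha)
    exact ⟨b, ha, rfl⟩
  have hcard : Nat.card J₀ = 2 ^ 9 := by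
    rw [← P.card_J, Nat.card_congr (J₀.equivMapOfInjective ι hinj).toEquiv,
      Subgroup.map_comap_eq_self fun a ha => (hrange a).1 (P.le ha)]
  have hzι : ι (zC z₀) = zC z := rfl
  have hxc : XCent J₀ (zC z₀) :=
    { mem := show ι (zC z₀) ∈ P.J by rw [hzι]; exact P.xc.mem
      inv := hinj (by rw [map_mul, map_one, hzι]; exact P.xc.inv)
      ne_one := fun e => P.xc.ne_one (by rw [← hzι, e, map_one])
      comm := fun q hq => hinj (by rw [map_mul, map_mul, hzι]; exact P.xc.comm _ hq)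
      center := fun c hc hcomm => by
        rcases P.xc.center (ι c) hc fun q hq => by
            obtain ⟨b, hb, rfl⟩ := hpre q hq
            rw [← map_mul, ← map_mul, hcomm b hb] with e | e
        · exact Or.inl (hinj (by rw [e, map_one]))
        · exact Or.inr (hinj (by rw [e, hzι]))
      commEl := fun a ha b hb => by
        rcases P.xc.commEl (ι a) ha (ι b) hb with e | e
        · exact Or.inl (hinj (by rw [map_mul, map_mul, map_inv, e]))
        · exact Or.inr (hinj (by rw [map_mul, map_mul, map_mul, map_inv, hzι, e]))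
      sq := fun a ha => by
        rcases P.xc.sq (ι a) ha with e | e
        · exact Or.inl (hinj (by rw [map_mul, map_one, e]))
        · exact Or.inr (hinj (by rw [map_mul, hzι, e]))
      cent := fun c hc => P.xc.cent (Subgroup.mem_centralizer_iff.2 fun q hq => by
        obtain ⟨b, hb, rfl⟩ := hpre q hq
        rw [← map_mul, ← map_mul, Subgroup.mem_centralizer_iff.1 hc b hb])
      norm := fun c hc q hq => by
        show ι (c * q * c⁻¹) ∈ P.J
        rw [map_mul, map_mul, map_inv]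
        exact P.normJ.conj_mem _ hq _ }
  haveI hnJ : J₀.Normal := P.normJ.comap ι
  let E : (⊤ : Subgroup (Subgroup.centralizer ({z₀} : Set G₀))) ≃* ↥P.H₁ :=
    MulEquiv.ofBijective (MonoidHom.mk' (fun a : (⊤ : Subgroup (Subgroup.centralizer ({z₀} : Set G₀))) =>
      (⟨ι a.1, (hrange _).2 ⟨a.1, rfl⟩⟩ : P.H₁)) fun a b => Subtype.ext (map_mul ι a.1 b.1)) ⟨fun a b e => Subtype.ext (hinj (congrArg Subtype.val e : ι a.1 = ι b.1)),
      fun a => by
        obtain ⟨b, hb⟩ := (hrange a).1 a.2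
        exact ⟨⟨b, Subgroup.mem_top _⟩, Subtype.ext hb⟩⟩
  have hquot : Nonempty (↥(⊤ : Subgroup (Subgroup.centralizer ({z₀} : Set G₀))) ⧸
      J₀.subgroupOf ⊤ ≃* Cfsg.PSU 4 K4 2) := by
    obtain ⟨e⟩ := P.iso
    refine ⟨(QuotientGroup.congr _ _ E (Subgroup.ext fun x => ?_)).trans e⟩
    show x ∈ Subgroup.map E.toMonoidHom _ ↔ _
    rw [Subgroup.mem_map_equiv]
    show ι (E.symm x).1 ∈ P.J ↔ _
    rw [show ι (E.symm x).1 = (x : Subgroup.centralizer ({z} : Set G)) from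
      congrArg Subtype.val (E.apply_symm_apply x), Subgroup.mem_subgroupOf]
  refine ⟨{ J := J₀, H₁ := ⊤, ord := ?_, xc := hxc, card_J := hcard, le := le_top,
            index := Or.inl Subgroup.index_top, iso := hquot, faithful := ?_ }, rfl⟩
  · rw [← P.ord, ← Subgroup.orderOf_coe]
  · intro a ha
    refine P.faithful (ι a) fun x hx => ?_
    obtain ⟨b, rfl⟩ := (hrange x).1 hx
    rw [← map_inv, ← map_inv, ← map_mul, ← map_mul, ← map_mul]
    exact ha b (Subgroup.mem_top b)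

/-- The case of index two. -/
theorem outer_or_isolated [Finite G] (hS : SplitStmt.{u}) (hA : SixStmt.{u}) (hB : FusionStmt.{u})
    (hC : LocalStmt.{u}) (hD : FrameStmt.{u}) (P : Hyp z) (hidx : P.H₁.index = 2)
    {K : Type v} [Field K] [Fintype K] (hK : Fintype.card K = 4) :
    (∃ G₀ : Subgroup G, G₀.index = 2 ∧ Nonempty (↥G₀ ≃* Cfsg.PSU 6 K 2) ∧
      Subgroup.centralizer (G₀ : Set G) = ⊥) ∨ Cfsg.IsIsolatedInvolution z := by
  classical
  by_cases hiso : Cfsg.IsIsolatedInvolution z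
  · exact Or.inr hiso
  left
  obtain ⟨M⟩ := (hS P).resolve_right fun ⟨S⟩ => hiso (hA P S)
  obtain ⟨F⟩ := hB P M hiso
  obtain ⟨G₀, hi, hcap⟩ := outerStmt P M F hidx
  obtain ⟨hz, Q, hQ⟩ := exists_hyp_sub P G₀ hcap
  obtain ⟨x₁, hx₁⟩ : ∃ x, x ∉ P.H₁ := by
    by_contra hc
    push Not at hc
    rw [(Subgroup.eq_top_iff' _).2 hc, Subgroup.index_top] at hidx
    norm_num at hidx
  have hxG : (x₁ : G) ∉ G₀ := fun hx => hx₁ (by
    have : (x₁ : G) ∈ P.H₁.map (Subgroup.centralizer ({z} : Set G)).subtype := hcap ▸ ⟨x₁.2, hx⟩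
    obtain ⟨a, ha, e⟩ := this
    rwa [Subtype.ext e] at ha)
  have hconj : ∀ g : G, ∃ k : G₀, (k : G) * z * (k : G)⁻¹ = g * z * g⁻¹ := fun g => by
    by_cases hg : g ∈ G₀
    · exact ⟨⟨g, hg⟩, rfl⟩
    · refine ⟨⟨g * x₁, by rw [Subgroup.mul_mem_iff_of_index_two hi]; tauto⟩, ?_⟩
      show g * (x₁ : G) * z * (g * x₁)⁻¹ = _
      rw [mul_assoc g, Subgroup.mem_centralizer_singleton_iff.1 x₁.2]
      group
  have hniso₀ : ¬ Cfsg.IsIsolatedInvolution (⟨z, hz⟩ : G₀) := fun h0 => hiso ⟨P.ord, fun g hg => by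
    obtain ⟨k, hk⟩ := hconj g
    rw [← hk] at hg ⊢
    exact congrArg Subtype.val (h0.2 k (Subtype.ext hg.eq))⟩
  refine ⟨G₀, hi, (iso_or_isolated hS hA hB hC hD Q hQ hK).resolve_right hniso₀, ?_⟩
  rw [Subgroup.eq_bot_iff_forall]
  intro c hc
  have hcz : c ∈ Subgroup.centralizer ({z} : Set G) :=
    Subgroup.mem_centralizer_singleton_iff.2 (Subgroup.mem_centralizer_iff.1 hc z hz).symm
  have hin : ∀ q ∈ P.J, (q : G) ∈ G₀ := fun q hq => by
    have : (q : G) ∈ Subgroup.centralizer ({z} : Set G) ⊓ G₀ := hcap ▸ ⟨q, P.le hq, rfl⟩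
    exact this.2
  have hcomm : ∀ q ∈ P.J, q * ⟨c, hcz⟩ = ⟨c, hcz⟩ * q := fun q hq =>
    Subtype.ext (Subgroup.mem_centralizer_iff.1 hc _ (hin q hq))
  rcases P.xc.center _ (P.xc.cent (Subgroup.mem_centralizer_iff.2 hcomm)) hcomm with e | e
  · exact congrArg Subtype.val e
  · exfalso
    have hcz' : c = z := congrArg Subtype.val e
    subst hcz'
    refine hniso₀ ⟨Q.ord, fun k _ => Subtype.ext ?_⟩
    show (k : G) * c * (k : G)⁻¹ = c
    rw [Subgroup.mem_centralizer_iff.1 hc _ k.2, mul_inv_cancel_right]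

theorem exists_hyp_psp [Finite G] (hz : orderOf z = 2)
    {F : Type v} [Field F] [Fintype F] (hF : Fintype.card F = 3)
    (hJ : Cfsg.IsExtraspecial 2 ↥(Cfsg.pCore 2 ↥(Subgroup.centralizer ({z} : Set G))))
    (hJc : Nat.card ↥(Cfsg.pCore 2 ↥(Subgroup.centralizer ({z} : Set G))) = 2 ^ 9)
    (hCJ : Subgroup.centralizer ((Cfsg.pCore 2 ↥(Subgroup.centralizer ({z} : Set G))) :
      Set ↥(Subgroup.centralizer ({z} : Set G))) ≤ Cfsg.pCore 2 ↥(Subgroup.centralizer ({z} : Set G)))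
    [hJn : (Cfsg.pCore 2 ↥(Subgroup.centralizer ({z} : Set G))).Normal]
    (H₁ : Subgroup ↥(Subgroup.centralizer ({z} : Set G))) [H₁.Normal]
    (hle : Cfsg.pCore 2 ↥(Subgroup.centralizer ({z} : Set G)) ≤ H₁)
    (hidx : H₁.index = 1 ∨ H₁.index = 2)
    (e : ↥H₁ ⧸ (Cfsg.pCore 2 ↥(Subgroup.centralizer ({z} : Set G))).subgroupOf H₁ ≃* Cfsg.PSp 2 F)
    (hfaith : ∀ h, (∀ x ∈ H₁, h * x * h⁻¹ * x⁻¹ ∈ Cfsg.pCore 2 ↥(Subgroup.centralizer ({z} : Set G))) →
      h ∈ Cfsg.pCore 2 ↥(Subgroup.centralizer ({z} : Set G))) :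
    ∃ P : Hyp z, P.H₁ = H₁ := by
  have hzc : ∀ q : ↥(Subgroup.centralizer ({z} : Set G)), q * zC z = zC z * q := fun q =>
    Subtype.ext (Subgroup.mem_centralizer_singleton_iff.1 q.2)
  have hzJ : zC z ∈ Cfsg.pCore 2 ↥(Subgroup.centralizer ({z} : Set G)) :=
    hCJ (Subgroup.mem_centralizer_iff.2 fun q _ => hzc q)
  obtain ⟨e'⟩ := CfsgLib.Classical.ESix.psu_four_two_equiv_psp_four (F := K4) (K := F)
    CfsgLib.Spor.U62.card_K4 hF
  refine ⟨{ J := Cfsg.pCore 2 ↥(Subgroup.centralizer ({z} : Set G)), H₁ := H₁, ord := hz,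
            xc := xCent_mk hJ hCJ (mem_centerIn.2 ⟨hzJ, fun q _ => hzc q⟩) ?_ ?_, card_J := hJc,
            le := hle, index := hidx, iso := ⟨e.trans e'.symm⟩, faithful := hfaith }, rfl⟩
  · intro h
    have h1 : z = 1 := congrArg Subtype.val h
    rw [h1, orderOf_one] at hz
    norm_num at hz
  · intro c _
    rw [Subgroup.mem_normalizer_iff]
    intro q
    refine ⟨fun hq => hJn.conj_mem q hq c, fun hq => ?_⟩
    simpa [mul_assoc] using hJn.conj_mem _ hq c⁻¹

theorem isSimpleGroup_psp_four_three {F : Type v} [Field F] [Fintype F] (hF : Fintype.card F = 3) :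
    IsSimpleGroup (Cfsg.PSp 2 F) :=
  CfsgLib.Classical.isSimpleGroup_psp (by simp) (CfsgLib.Classical.sp_commutator_eq_top'
    (Or.inr (Or.inl ⟨by simp, by rw [Nat.card_eq_fintype_card, hF]⟩)))

/-- The centre of `PSp₄(3)`. -/
theorem center_psp_four_three {F : Type v} [Field F] [Fintype F] (hF : Fintype.card F = 3) :
    Subgroup.center (Cfsg.PSp 2 F) = ⊥ :=
  CfsgLib.KnownB.PSpAut.center_eq_bot le_rfl (isSimpleGroup_psp_four_three hF)

/-- S3230 from the pieces. -/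
theorem inner_main [Finite G] (hS : SplitStmt.{u}) (hA : SixStmt.{u}) (hB : FusionStmt.{u})
    (hC : LocalStmt.{u}) (hD : FrameStmt.{u}) (hz : orderOf z = 2)
    {F : Type v} [Field F] [Fintype F] (hF : Fintype.card F = 3)
    {K : Type*} [Field K] [Fintype K] (hK : Fintype.card K = 4)
    (hJ : Cfsg.IsExtraspecial 2 ↥(Cfsg.pCore 2 ↥(Subgroup.centralizer ({z} : Set G))))
    (hJc : Nat.card ↥(Cfsg.pCore 2 ↥(Subgroup.centralizer ({z} : Set G))) = 2 ^ 9)
    (hCJ : Subgroup.centralizer ((Cfsg.pCore 2 ↥(Subgroup.centralizer ({z} : Set G))) :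
      Set ↥(Subgroup.centralizer ({z} : Set G))) ≤ Cfsg.pCore 2 ↥(Subgroup.centralizer ({z} : Set G)))
    [hJn : (Cfsg.pCore 2 ↥(Subgroup.centralizer ({z} : Set G))).Normal]
    (e : (↥(Subgroup.centralizer ({z} : Set G)) ⧸ Cfsg.pCore 2 ↥(Subgroup.centralizer ({z} : Set G)))
      ≃* Cfsg.PSp 2 F) :
    Nonempty (G ≃* Cfsg.PSU 6 K 2) ∨
      Subgroup.centralizer ({z} : Set G) ⊔ Cfsg.oddCore G = ⊤ := by
  obtain ⟨P, hP⟩ := exists_hyp_psp hz hF hJ hJc hCJ ⊤ le_top (Or.inl Subgroup.index_top)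
    ((QuotientGroup.congr _ _ Subgroup.topEquiv (Subgroup.ext fun x => by
      constructor
      · rintro ⟨a, ha, rfl⟩; exact ha
      · exact fun hx => ⟨⟨x, Subgroup.mem_top x⟩, hx, rfl⟩)).trans e) fun h hh => by
      have : e (QuotientGroup.mk h) ∈ Subgroup.center (Cfsg.PSp 2 F) :=
        Subgroup.mem_center_iff.2 fun y => by
          obtain ⟨x, rfl⟩ := (e.surjective.comp QuotientGroup.mk_surjective) y
          have h1 := congrArg e ((QuotientGroup.eq_one_iff _).2 (hh x (Subgroup.mem_top x)))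
          simp only [QuotientGroup.mk_mul, QuotientGroup.mk_inv, map_mul, map_inv, map_one] at h1
          exact (mul_inv_eq_iff_eq_mul.1 (mul_inv_eq_one.1 h1)).symm
      rw [center_psp_four_three hF, Subgroup.mem_bot, map_eq_one_iff _ e.injective,
        QuotientGroup.eq_one_iff] at this
      exact this
  exact (iso_or_isolated hS hA hB hC hD P hP hK).imp_right sup_oddCore_eq_top

/-- S3231 from the pieces. -/
theorem outer_main [Finite G] (hS : SplitStmt.{u}) (hA : SixStmt.{u}) (hB : FusionStmt.{u})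
    (hC : LocalStmt.{u}) (hD : FrameStmt.{u}) (hz : orderOf z = 2)
    {F : Type v} [Field F] [Fintype F] (hF : Fintype.card F = 3)
    {K : Type*} [Field K] [Fintype K] (hK : Fintype.card K = 4)
    (hJ : Cfsg.IsExtraspecial 2 ↥(Cfsg.pCore 2 ↥(Subgroup.centralizer ({z} : Set G))))
    (hJc : Nat.card ↥(Cfsg.pCore 2 ↥(Subgroup.centralizer ({z} : Set G))) = 2 ^ 9)
    (hCJ : Subgroup.centralizer ((Cfsg.pCore 2 ↥(Subgroup.centralizer ({z} : Set G))) :
      Set ↥(Subgroup.centralizer ({z} : Set G))) ≤ Cfsg.pCore 2 ↥(Subgroup.centralizer ({z} : Set G)))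
    [hJn : (Cfsg.pCore 2 ↥(Subgroup.centralizer ({z} : Set G))).Normal]
    (e : (↥(Subgroup.centralizer ({z} : Set G)) ⧸ Cfsg.pCore 2 ↥(Subgroup.centralizer ({z} : Set G)))
      ≃* MulAut (Cfsg.PSp 2 F)) :
    (∃ G₀ : Subgroup G, G₀.index = 2 ∧ Nonempty (↥G₀ ≃* Cfsg.PSU 6 K 2) ∧
      Subgroup.centralizer (G₀ : Set G) = ⊥) ∨
      Subgroup.centralizer ({z} : Set G) ⊔ Cfsg.oddCore G = ⊤ := by
  classical
  set J := Cfsg.pCore 2 ↥(Subgroup.centralizer ({z} : Set G))
  let q : ↥(Subgroup.centralizer ({z} : Set G)) →* MulAut (Cfsg.PSp 2 F) :=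
    e.toMonoidHom.comp (QuotientGroup.mk' J)
  have hq : Function.Surjective q := e.surjective.comp QuotientGroup.mk_surjective
  have hker : ∀ h, q h = 1 ↔ h ∈ J := fun h => by
    show e (QuotientGroup.mk h) = 1 ↔ _
    rw [map_eq_one_iff _ e.injective, QuotientGroup.eq_one_iff]
  set I := (MulAut.conj : Cfsg.PSp 2 F →* MulAut (Cfsg.PSp 2 F)).range
  have hcinj : Function.Injective (MulAut.conj : Cfsg.PSp 2 F →* MulAut (Cfsg.PSp 2 F)) := by
    refine (injective_iff_map_eq_one _).2 fun a ha => ?_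
    rw [← Subgroup.mem_bot, ← center_psp_four_three hF, Subgroup.mem_center_iff]
    intro y
    have := MulEquiv.congr_fun ha y
    simp only [MulAut.conj_apply, MulAut.one_apply] at this
    exact (mul_inv_eq_iff_eq_mul.1 this).symm
  have hIn : (I.comap q).Normal := Subgroup.Normal.comap ⟨by
    rintro _ ⟨a, rfl⟩ φ
    exact ⟨φ a, by ext y; simp⟩⟩ q
  let f : ↥(I.comap q) →* Cfsg.PSp 2 F :=
    (MonoidHom.ofInjective hcinj).symm.toMonoidHom.comp (q.subgroupComap I)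
  have hf : Function.Surjective f := by
    refine (MonoidHom.ofInjective hcinj).symm.surjective.comp fun b => ?_
    obtain ⟨a, ha⟩ := hq b
    exact ⟨⟨a, show q a ∈ I by rw [ha]; exact b.2⟩, Subtype.ext ha⟩
  have hkerf : f.ker = J.subgroupOf (I.comap q) := Subgroup.ext fun a => by
    rw [MonoidHom.mem_ker, Subgroup.mem_subgroupOf, ← hker]
    show (MonoidHom.ofInjective hcinj).symm (q.subgroupComap I a) = 1 ↔ _
    rw [map_eq_one_iff _ (MulEquiv.injective _)]
    exact ⟨fun h => congrArg Subtype.val h, fun h => Subtype.ext h⟩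
  have hidx : (I.comap q).index = 2 := by
    rw [Subgroup.index_comap_of_surjective _ hq, index_inn_psp_four_three hF]
  obtain ⟨P, hP⟩ := exists_hyp_psp hz hF hJ hJc hCJ (I.comap q)
    (fun a ha => show q a ∈ I by rw [(hker a).2 ha]; exact one_mem _) (Or.inr hidx)
    ((QuotientGroup.quotientMulEquivOfEq hkerf.symm).trans
      (QuotientGroup.quotientKerEquivOfSurjective f hf)) fun h hh => by
      rw [← hker]
      ext k
      obtain ⟨x, hx⟩ := hq (MulAut.conj k)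
      have h1 := (hker _).2 (hh x ⟨k, hx.symm⟩)
      simp only [map_mul, map_inv, hx] at h1
      refine congrArg Subtype.val (a₁ := (⟨q h k, trivial⟩ : {a : Cfsg.PSp 2 F // True}))
        (a₂ := ⟨k, trivial⟩) (Subtype.ext (hcinj ?_))
      rw [← mul_inv_eq_one.1 h1]
      ext y
      simp
  exact (outer_or_isolated hS hA hB hC hD P (by rw [hP]; exact hidx) hK).imp_right sup_oddCore_eq_top

end CfsgLib.U62Cent
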